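import Groth.Agent.H9Samuel.ChiTor
import Groth.Agent.H9Misc.TorBalance
import Groth.Agent.HSLib.Samuel
import Mathlib.RingTheory.KrullDimension.Regular

/-!
Positivity of the multiplicity against a regular sequence.
-/

set_option autoImplicit false
set_option linter.style.haveILetI false
set_option backward.isDefEq.respectTransparency false
set_option maxHeartbeats 1000000

universe u

open CategoryTheory CategoryTheory.Limits Filter Polynomial Groth.Agent Groth.Agent.HSLib IsLocalRing

noncomputable section

namespace Groth.Agent.H9Samuel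

variable {A : Type u} [CommRing A]

theorem chi_comm (M N : Type u) [AddCommGroup M] [Module A M] [AddCommGroup N] [Module A N] :
    IntMult.chi A M N = IntMult.chi A N M :=
  finsum_congr fun i => by
    rw [(H9Misc.TorBalance.torSymm (ModuleCat.of A M) (ModuleCat.of A N) i).toLinearEquiv.length_eq]

theorem length_quot_quot (W J : Ideal A) :
    Module.length A ((A ⧸ W) ⧸ (J • ⊤ : Submodule A (A ⧸ W))) = Module.length A (A ⧸ (W ⊔ J)) := by
  have hmap : (J • ⊤ : Submodule A (A ⧸ W)) = Submodule.map W.mkQ J := by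
    conv_rhs => rw [← show (J • ⊤ : Submodule A A) = J by rw [Ideal.smul_eq_mul, Ideal.mul_top]]
    rw [Submodule.map_smul'', Submodule.map_top, Submodule.range_mkQ]
  exact ((Submodule.quotEquivOfEq _ _ hmap).trans (Submodule.quotientQuotientEquivQuotientSup W J)).length_eq

variable [IsNoetherianRing A] [IsLocalRing A] {c : ℕ} (g : Fin c → A)

theorem chi_pos (M : Type u) [AddCommGroup M] [Module A M] [Module.Finite A M] [Nontrivial M]
    (hreg : RingTheory.Sequence.IsWeaklyRegular A (List.ofFn g))
    (hle : Ideal.span (Set.range g) ≤ maximalIdeal A)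
    (hmax : MaxSupp (Ideal.span (Set.range g)) M) (hdim : (c : WithBot ℕ∞) ≤ Module.supportDim A M) :
    0 < IntMult.chi A (A ⧸ Ideal.span (Set.range g)) M := by
  rw [chi_eq_euler g M hreg]
  obtain ⟨R, hR, hRe, he⟩ := euler_eq g M hmax
  obtain ⟨Rm, hRm⟩ := exists_poly_jacobson (A := A) M
  have hjac : Ideal.span (Set.range g) ≤ Ring.jacobson A := by
    rwa [IsLocalRing.ringJacobson_eq_maximalIdeal]
  have h1 : Rm.natDegree ≤ R.natDegree := natDegree_le_of_eventually_le hRm hRe (Eventually.of_forall fun t => by
    have hle' : Ideal.span (Set.range g) ^ t • (⊤ : Submodule A M) ≤ Ring.jacobson A ^ t • ⊤ :=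
      Submodule.smul_mono (Ideal.pow_right_mono hjac t) le_rfl
    exact ENat.toNat_le_toNat (Module.length_le_of_surjective (Submodule.factor hle') (Submodule.factor_surjective hle'))
      (length_quot_ne_top hmax le_rfl))
  have h2 := supportDim_le_natDegree M Rm hRm
  have h3 : c ≤ Rm.natDegree := by exact_mod_cast hdim.trans h2
  have hdeg : R.natDegree = c := le_antisymm hR (h3.trans h1)
  obtain ⟨t, ht, htR⟩ := ((eventually_ge_atTop 1).and hRe).exists
  have hpos : 0 < hs (Ideal.span (Set.range g)) M t := hs_pos hmax hjac ht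
  have hne : R ≠ 0 := by
    rintro rfl
    rw [eval_zero] at htR
    exact hpos.ne' (by exact_mod_cast htR)
  have hlc : 0 ≤ R.leadingCoeff := by
    by_contra hlt
    push Not at hlt
    rcases Nat.eq_zero_or_pos R.natDegree with h0 | h0
    · rw [eq_C_of_natDegree_eq_zero h0, eval_C] at htR
      rw [leadingCoeff, h0, ← htR] at hlt
      exact absurd hlt (not_lt.2 (Nat.cast_nonneg _))
    · have hbot := ((tendsto_atBot_iff_leadingCoeff_nonpos R).2 ⟨natDegree_pos_iff_degree_pos.1 h0, hlt.le⟩).comp
        (tendsto_natCast_atTop_atTop (R := ℚ))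
      obtain ⟨t', h, h'⟩ := ((hbot.eventually (eventually_lt_atBot (0 : ℚ))).and hRe).exists
      simp only [Function.comp_apply, ← h'] at h
      exact absurd h (not_lt.2 (Nat.cast_nonneg _))
  have hcoeff : 0 < R.coeff c := by
    rw [← hdeg]
    exact lt_of_le_of_ne hlc (Ne.symm (leadingCoeff_ne_zero.2 hne))
  have : (0 : ℚ) < ((∑ᶠ i : ℤ, ((i.negOnePow : ℤˣ) : ℤ) * ((Module.length A ((cx g M).homology i)).toNat : ℤ) : ℤ) : ℚ) := by
    rw [he]
    positivity
  exact_mod_cast this

end Groth.Agent.H9Samuel
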