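import Groth.Agent.H9Samuel.Euler
import Groth.Agent.PushAmp.KoszulTor
import Groth.Agent.KEuler.Euler
import Groth.Agent.S15821
import Groth.Prelude.Def_IntMult

/-!
The Tor formula against a regular sequence is the Euler characteristic of the Koszul complex.
-/

set_option autoImplicit false
set_option linter.style.haveILetI false
set_option backward.isDefEq.respectTransparency false
set_option maxHeartbeats 1000000

universe u

open CategoryTheory CategoryTheory.Limits MonoidalCategory HomologicalComplex Filter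

noncomputable section

namespace Groth.Agent.H9Samuel

open Groth.Agent PushAmp HSLib H9Misc.TorBalance H9Misc.DRingLTensorCx

variable {A : Type u} [CommRing A] {r : ℕ} (f : Fin r → A) (M : Type u) [AddCommGroup M] [Module A M]

theorem nonempty_tor_iso (hreg : RingTheory.Sequence.IsWeaklyRegular A (List.ofFn f)) (p : ℕ) :
    Nonempty (DRing.Tor A p (A ⧸ Ideal.span (Set.range f)) M ≃ₗ[A] (cx f M).homology (-(p : ℤ))) := by
  obtain ⟨hk, ⟨e0⟩⟩ := S15821.result A (List.ofFn f) hreg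
  obtain ⟨e⟩ := nonempty_tor_of_flat_res (Koszul.koszul A (List.ofFn f)) (termwiseFree_koszul _)
    (vanishesAbove_koszul _) hk (ModuleCat.of A M) p
  obtain ⟨e1⟩ := nonempty_koszul_tensor (sgl (ModuleCat.of A M)) (List.ofFn f)
  obtain ⟨e2⟩ := KEuler.nonempty_tensor_iso (ModuleCat.of A M) (List.ofFn f)
  let i0 : ModuleCat.of A (A ⧸ Ideal.span (Set.range f)) ≅ ModuleCat.of A (A ⧸ Ideal.ofList (List.ofFn f)) :=
    (Submodule.quotEquivOfEq _ _ (congrArg Ideal.span (Set.ext fun x => by simp [List.mem_ofFn]))).toModuleIso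
  exact ⟨(((Tor (ModuleCat.{u} A) p).mapIso (i0 ≪≫ e0.symm)).app _ ≪≫ e ≪≫
    (HomologicalComplex.homologyFunctor _ _ (-(p : ℤ))).mapIso
      (e1 ≪≫ eqToIso (koszulCx_eq_iterCone _ _).symm ≪≫ e2.symm)).toLinearEquiv⟩

/-- `χ(A/(f), M)` for a regular sequence `f`. -/
theorem chi_eq_euler (hreg : RingTheory.Sequence.IsWeaklyRegular A (List.ofFn f)) :
    IntMult.chi A (A ⧸ Ideal.span (Set.range f)) M =
      ∑ᶠ i : ℤ, ((i.negOnePow : ℤˣ) : ℤ) * ((Module.length A ((cx f M).homology i)).toNat : ℤ) := by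
  have key : ∀ p : ℕ, (-1 : ℤ) ^ p * ((Module.length A (DRing.Tor A p (A ⧸ Ideal.span (Set.range f)) M)).toNat : ℤ) =
      (((-(p : ℤ)).negOnePow : ℤˣ) : ℤ) * ((Module.length A ((cx f M).homology (-(p : ℤ)))).toNat : ℤ) := fun p => by
    obtain ⟨e⟩ := nonempty_tor_iso f M hreg p
    rw [e.length_eq, Int.negOnePow_neg, Int.coe_negOnePow_natCast]
  rw [IntMult.chi, finsum_congr key]
  let F : ℤ → ℤ := fun i => ((i.negOnePow : ℤˣ) : ℤ) * ((Module.length A ((cx f M).homology i)).toNat : ℤ)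
  show ∑ᶠ p : ℕ, F (-(p : ℤ)) = ∑ᶠ i : ℤ, F i
  rw [← finsum_mem_range (f := F) (g := fun p : ℕ => -(p : ℤ)) (fun a b h => by simpa using h), ← finsum_mem_univ F]
  refine finsum_mem_inter_support_eq' F _ _ fun i hi => iff_of_true ?_ trivial
  by_contra hne
  have hpos : 0 < i := by
    by_contra hc
    exact hne ⟨(-i).toNat, by simp only; omega⟩
  haveI := subsingleton_homology f M i (Or.inl hpos)
  apply hi
  show _ * _ = (0 : ℤ)
  rw [Module.length_eq_zero_iff.2 inferInstance]
  simp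

variable [IsNoetherianRing A] [IsLocalRing A] [Module.Finite A M]

theorem maxSupp_of_dim_le_zero
    (h0 : Module.supportDim A (M ⧸ (Ideal.span (Set.range f) • (⊤ : Submodule A M))) ≤ 0) :
    MaxSupp (Ideal.span (Set.range f)) M := by
  intro p hp hle
  have hp' : p ∈ Module.support A (M ⧸ (Ideal.span (Set.range f) • (⊤ : Submodule A M))) := by
    rw [Module.support_quotient]
    exact ⟨hp, (PrimeSpectrum.mem_zeroLocus _ _).2 (SetLike.coe_subset_coe.2 hle)⟩
  by_contra hnm
  obtain ⟨m, hm, hpm⟩ := p.asIdeal.exists_le_maximal p.2.ne_top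
  let q : PrimeSpectrum A := ⟨m, hm.isPrime⟩
  have hlt : p < q := lt_of_le_of_ne hpm fun h => hnm (h ▸ hm)
  have hq : q ∈ Module.support A (M ⧸ (Ideal.span (Set.range f) • (⊤ : Submodule A M))) :=
    Module.mem_support_mono hpm hp'
  exact absurd h0 (not_le.2 (Order.krullDim_pos_iff.2 ⟨⟨p, hp'⟩, ⟨q, hq⟩, hlt⟩))

theorem tendsto_chi (hreg : RingTheory.Sequence.IsWeaklyRegular A (List.ofFn f))
    (h0 : Module.supportDim A (M ⧸ (Ideal.span (Set.range f) • (⊤ : Submodule A M))) ≤ 0) :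
    Tendsto (fun t : ℕ => (r.factorial : ℝ) *
        ((Module.length A (M ⧸ (Ideal.span (Set.range f) ^ t • (⊤ : Submodule A M)))).toNat : ℝ) / (t : ℝ) ^ r) atTop
      (nhds (IntMult.chi A (A ⧸ Ideal.span (Set.range f)) M : ℝ)) := by
  rw [chi_eq_euler f M hreg]
  exact tendsto_euler_of_maxSupp f M (maxSupp_of_dim_le_zero f M h0)

end Groth.Agent.H9Samuel
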