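import Groth.Agent.H9Samuel.Trunc
import Groth.Agent.WiebeLib.Koszul
import Groth.Prelude.Def_Koszul
import Groth.Prelude.Def_DRing2

/-!
The Euler characteristic of the Koszul complex is the multiplicity.
-/

set_option autoImplicit false
set_option linter.style.haveILetI false
set_option linter.unusedSectionVars false
set_option backward.isDefEq.respectTransparency false

universe u

open CategoryTheory CategoryTheory.Limits TensorProduct Polynomial Filter Groth.Agent Groth.Agent.WiebeLib
  Groth.Agent.HSLib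

namespace Groth.Agent.H9Samuel

variable {A : Type u} [CommRing A] {r : ℕ} (f : Fin r → A) (M : Type u) [AddCommGroup M] [Module A M]

/-- The complex of the statements. -/
noncomputable abbrev cx : CochainComplex (ModuleCat.{u} A) ℤ :=
  DRing.tensorCx (Koszul.koszul A (List.ofFn f)) (ModuleCat.of A M)

theorem subsingleton_X_pos (i : ℤ) (hi : 0 < i) : Subsingleton ((cx f M).X i) := by
  obtain ⟨L⟩ := nonempty_comparison f
  haveI := ModuleCat.subsingleton_of_isZero (L.isZero_pos i hi)
  show Subsingleton (((Koszul.koszul A (List.ofFn f)).X i : Type u) ⊗[A] M)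
  infer_instance

theorem subsingleton_homology (i : ℤ) (hi : 0 < i ∨ i < -(r : ℤ)) : Subsingleton ((cx f M).homology i) := by
  refine ModuleCat.subsingleton_of_isZero (HomologicalComplex.ExactAt.isZero_homology
    (ShortComplex.exact_of_isZero_X₂ _ ?_))
  refine (ModuleCat.isZero_iff_subsingleton (M := (cx f M).X i)).2 ?_
  rcases hi with hi | hi
  · exact subsingleton_X_pos f M i hi
  · obtain ⟨L⟩ := nonempty_comparison f
    obtain ⟨k, hk⟩ : ∃ k : ℕ, i = -(k : ℤ) := ⟨(-i).toNat, by omega⟩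
    haveI := subsingleton_ko A (show r < k by omega)
    haveI : Subsingleton ((Koszul.koszul A (List.ofFn f)).X i : Type u) := (L.e i k hk).toEquiv.subsingleton
    show Subsingleton (((Koszul.koszul A (List.ofFn f)).X i : Type u) ⊗[A] M)
    infer_instance

theorem length_homology (p : ℕ) : Module.length A ((cx f M).homology (-(p : ℤ))) = hlen f M p := by
  obtain ⟨L⟩ := nonempty_comparison f
  let K := Koszul.koszul A (List.ofFn f)
  let E : ∀ (i : ℤ) (k : ℕ), i = -(k : ℤ) → ((cx f M).X i ≃ₗ[A] C (r := r) (A := A) M k) := fun i k h =>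
    (L.e i k h).rTensor M
  have hE : ∀ (i j : ℤ) (k : ℕ) (hi : i = -((k + 1 : ℕ) : ℤ)) (hj : j = -(k : ℤ)) (z : (cx f M).X i),
      E j k hj ((cx f M).d i j z) = D f M k (E i (k + 1) hi z) := by
    intro i j k hi hj z
    change (L.e j k hj).rTensor M ((K.d i j).hom.rTensor M z) = (d r f k).rTensor M ((L.e i (k + 1) hi).rTensor M z)
    induction z using TensorProduct.induction_on with
    | zero => simp only [map_zero]
    | tmul a b =>
      show L.e j k hj (K.d i j a) ⊗ₜ[A] b = d r f k (L.e i (k + 1) hi a) ⊗ₜ[A] b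
      rw [L.comm i j k hi hj]
    | add x y hx hy => simp only [map_add, hx, hy]
  let i : ℤ := -(p : ℤ)
  let S := (cx f M).sc' (i - 1) i (i + 1)
  let e := E i p rfl
  have hker : ∀ z : (cx f M).X i, z ∈ LinearMap.ker S.g.hom ↔ e z ∈ Z f M p := by
    intro z
    cases p with
    | zero =>
      haveI hs : Subsingleton S.X₃ := subsingleton_X_pos f M (i + 1) (by simp [i])
      exact ⟨fun _ => trivial, fun _ => LinearMap.mem_ker.2 (Subsingleton.elim _ _)⟩
    | succ q =>
      have hq : i + 1 = -(q : ℤ) := by simp only [i]; push_cast; ring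
      show (cx f M).d i (i + 1) z = 0 ↔ D f M q (e z) = 0
      rw [← hE i (i + 1) q rfl hq z]
      exact ⟨fun h => by rw [h, map_zero], fun h => (E _ q hq).injective (h.trans (map_zero _).symm)⟩
  have hZ : (LinearMap.ker S.g.hom).map e.toLinearMap = Z f M p := by
    ext w
    constructor
    · rintro ⟨z, hz, rfl⟩; exact (hker z).1 hz
    · intro hw
      exact ⟨e.symm w, (hker _).2 (by rwa [LinearEquiv.apply_symm_apply]), LinearEquiv.apply_symm_apply _ w⟩
  let eZ : LinearMap.ker S.g.hom ≃ₗ[A] Z f M p :=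
    (e.submoduleMap (LinearMap.ker S.g.hom)).trans (LinearEquiv.ofEq _ _ hZ)
  have hprev : i - 1 = -((p + 1 : ℕ) : ℤ) := by simp only [i]; push_cast; ring
  have hmap : (LinearMap.range S.moduleCatToCycles).map eZ.toLinearMap = (B f M p).comap (Z f M p).subtype := by
    ext w
    constructor
    · rintro ⟨_, ⟨y, rfl⟩, rfl⟩
      exact ⟨E _ (p + 1) hprev y, (hE (i - 1) i p hprev rfl y).symm⟩
    · rintro ⟨x, hx⟩
      refine ⟨_, ⟨(E _ (p + 1) hprev).symm x, rfl⟩, Subtype.ext ?_⟩
      show e ((cx f M).d (i - 1) i ((E _ (p + 1) hprev).symm x)) = (w : C (r := r) (A := A) M p)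
      rw [hE (i - 1) i p hprev rfl, LinearEquiv.apply_symm_apply]
      exact hx
  exact ((cx f M).homologyIsoSc' (i - 1) i (i + 1) (by simp) (by simp) ≪≫ S.moduleCatHomologyIso).toLinearEquiv.length_eq.trans
    (Submodule.Quotient.equiv _ _ eZ hmap).length_eq

theorem alt_sum_coeff {d : ℕ} (q : ℚ[X]) (hq : q.natDegree ≤ d) :
    ∑ j ∈ Finset.range (d + 1), (-1 : ℚ) ^ (d - j) * d.choose j * q.eval (j : ℚ) = q.coeff d * d.factorial := by
  have h := congrFun (show (fwdDiff (1 : ℚ))^[d] q.eval = fun _ => q.coeff d * d.factorial by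
    rcases hq.lt_or_eq with h | h
    · rw [Polynomial.fwdDiff_iter_eq_zero_of_degree_lt h, Polynomial.coeff_eq_zero_of_natDegree_lt h]
      simp only [zero_mul]
      rfl
    · subst h
      rw [Polynomial.fwdDiff_iter_degree_eq_factorial]
      rfl) 0
  rw [fwdDiff_iter_eq_sum_shift] at h
  refine Eq.trans (Finset.sum_congr rfl fun j _ => ?_) h
  simp [zsmul_eq_mul]

/-- Backward differences of a polynomial. -/
theorem alt_sum_back {d : ℕ} (q : ℚ[X]) (hq : q.natDegree ≤ d) (n : ℚ) :
    ∑ j ∈ Finset.range (d + 1), (-1 : ℚ) ^ j * d.choose j * q.eval (n - j) = d.factorial * q.coeff d := by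
  rw [← Finset.sum_range_reflect]
  have hcoeff : (q.comp (X + Polynomial.C (n - d))).coeff d = q.coeff d := by
    rcases hq.lt_or_eq with h | h
    · rw [coeff_eq_zero_of_natDegree_lt h, coeff_eq_zero_of_natDegree_lt]
      rwa [natDegree_comp, natDegree_X_add_C, mul_one]
    · have := leadingCoeff_comp (p := q) (q := X + Polynomial.C (n - d)) (by rw [natDegree_X_add_C]; exact one_ne_zero)
      rw [leadingCoeff, natDegree_comp, natDegree_X_add_C, mul_one, h, leadingCoeff_X_add_C, one_pow, mul_one,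
        leadingCoeff, h] at this
      exact this
  rw [mul_comm _ (q.coeff d), ← hcoeff, ← alt_sum_coeff (q.comp (X + Polynomial.C (n - d))) (by
    rw [natDegree_comp, natDegree_X_add_C, mul_one]; exact hq)]
  refine Finset.sum_congr rfl fun j hj => ?_
  have hjd : j ≤ d := Nat.lt_succ_iff.1 (Finset.mem_range.1 hj)
  rw [show d + 1 - 1 - j = d - j by omega, Nat.choose_symm hjd, eval_comp, eval_add, eval_X, eval_C,
    Nat.cast_sub hjd]
  congr 2
  ring

variable [IsNoetherianRing A] [IsLocalRing A] [Module.Finite A M]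

theorem maxSupp_of_primary (hI : Ideal.span (Set.range f) ≤ IsLocalRing.maximalIdeal A ∧
    ∃ n : ℕ, IsLocalRing.maximalIdeal A ^ n ≤ Ideal.span (Set.range f)) :
    MaxSupp (Ideal.span (Set.range f)) M := by
  intro p _ hle
  obtain ⟨n, hn⟩ := hI.2
  have := p.2.le_of_pow_le (hn.trans hle)
  rw [← (IsLocalRing.maximalIdeal.isMaximal A).eq_of_le p.2.ne_top this]
  exact IsLocalRing.maximalIdeal.isMaximal A

/-- The Euler characteristic is the leading coefficient of the Hilbert–Samuel polynomial, up to `r!`. -/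
theorem euler_eq (hmax : MaxSupp (Ideal.span (Set.range f)) M) :
    ∃ R : ℚ[X], R.natDegree ≤ r ∧ EvPoly (hs (Ideal.span (Set.range f)) M) R ∧
      ((∑ᶠ i : ℤ, ((i.negOnePow : ℤˣ) : ℤ) * ((Module.length A ((cx f M).homology i)).toNat : ℤ) : ℤ) : ℚ) =
        r.factorial * R.coeff r := by
  set I := Ideal.span (Set.range f)
  obtain ⟨R, hR, hRe⟩ := exists_poly f hmax
  refine ⟨R, hR, hRe, ?_⟩
  obtain ⟨N, hN⟩ := exists_split f M
  obtain ⟨T, hT⟩ := eventually_atTop.1 hRe
  obtain ⟨β, hβr, hβ0, hβ⟩ := hN (N + T + r) (by omega)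
  let h : ℕ → ℕ := fun p => (hlen f M p).toNat
  let b : ℕ → ℕ := fun p => (β p).toNat
  have key : ∀ p ≤ r, r.choose p * hs I M (N + T + r - p) = b (p + 1) + h p + b p := by
    intro p hp
    have e := hβ p hp
    have hfin := length_quot_ne_top hmax (le_refl (I ^ (N + T + r - p) • (⊤ : Submodule A M)))
    have hfin' : (r.choose p : ℕ∞) * Module.length A (M ⧸ (I ^ (N + T + r - p) • ⊤ : Submodule A M)) ≠ ⊤ :=
      WithTop.mul_ne_top (WithTop.natCast_ne_top _) hfin
    rw [e] at hfin'
    obtain ⟨h12, h3⟩ := WithTop.add_ne_top.1 hfin'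
    obtain ⟨h1, h2⟩ := WithTop.add_ne_top.1 h12
    have e' := congrArg ENat.toNat e
    rw [ENat.toNat_mul, ENat.toNat_coe, ENat.toNat_add h12 h3, ENat.toNat_add h1 h2] at e'
    exact e'
  have hχ : (∑ᶠ i : ℤ, ((i.negOnePow : ℤˣ) : ℤ) * ((Module.length A ((cx f M).homology i)).toNat : ℤ)) =
      ∑ p ∈ Finset.range (r + 1), (-1 : ℤ) ^ p * (h p : ℤ) := by
    rw [finsum_eq_sum_of_support_subset _ (s := (Finset.range (r + 1)).image fun p : ℕ => -(p : ℤ))]
    · rw [Finset.sum_image (fun a _ b _ hab => by simpa using hab)]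
      refine Finset.sum_congr rfl fun p _ => ?_
      rw [length_homology f M p, Int.negOnePow_neg, Int.coe_negOnePow_natCast]
    · intro i hi
      simp only [Finset.coe_image, Finset.coe_range, Set.mem_image, Set.mem_Iio]
      by_contra hne
      haveI := subsingleton_homology f M i (by
        by_contra hc
        simp only [not_or, not_lt] at hc
        exact hne ⟨(-i).toNat, by omega, by omega⟩)
      apply hi
      show _ * _ = (0 : ℤ)
      rw [Module.length_eq_zero_iff.2 inferInstance]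
      simp
  rw [hχ, ← alt_sum_back R hR ((N + T + r : ℕ) : ℚ)]
  have tele : ∀ k, ∑ p ∈ Finset.range k, (-1 : ℚ) ^ p * ((b (p + 1) : ℚ) + b p) =
      -(-1 : ℚ) ^ k * b k + b 0 := by
    intro k
    induction k with
    | zero => simp
    | succ k ih => rw [Finset.sum_range_succ, ih, pow_succ]; ring
  have hsum : ∑ p ∈ Finset.range (r + 1), (-1 : ℚ) ^ p * r.choose p * R.eval (((N + T + r : ℕ) : ℚ) - p) =
      ∑ p ∈ Finset.range (r + 1), ((-1 : ℚ) ^ p * h p + (-1 : ℚ) ^ p * ((b (p + 1) : ℚ) + b p)) := by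
    refine Finset.sum_congr rfl fun p hp => ?_
    have hp' : p ≤ r := Nat.lt_succ_iff.1 (Finset.mem_range.1 hp)
    rw [← Nat.cast_sub (by omega), ← hT (N + T + r - p) (by omega), mul_assoc, ← Nat.cast_mul, key p hp']
    push_cast
    ring
  rw [hsum, Finset.sum_add_distrib, tele]
  simp only [b, hβr, hβ0]
  push_cast
  simp

theorem tendsto_of_evPoly {g : ℕ → ℕ} {R : ℚ[X]} {d : ℕ} (hR : R.natDegree ≤ d) (hg : EvPoly g R) :
    Tendsto (fun t : ℕ => (d.factorial : ℝ) * (g t : ℝ) / (t : ℝ) ^ d) atTop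
      (nhds ((d.factorial * R.coeff d : ℚ) : ℝ)) := by
  have hlim : Tendsto (fun t : ℕ => ∑ i ∈ Finset.range (d + 1), (d.factorial : ℝ) * (R.coeff i : ℝ) * ((t : ℝ) ^ i / (t : ℝ) ^ d))
      atTop (nhds (∑ i ∈ Finset.range (d + 1), (d.factorial : ℝ) * (R.coeff i : ℝ) * (if i = d then 1 else 0))) := by
    refine tendsto_finsetSum _ fun i hi => ?_
    refine Tendsto.const_mul _ ?_
    split_ifs with h
    · subst h
      refine tendsto_const_nhds.congr' ?_
      filter_upwards [eventually_gt_atTop 0] with t ht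
      rw [div_self (pow_ne_zero _ (by exact_mod_cast ht.ne'))]
    · exact (tendsto_pow_div_pow_atTop_zero
        (lt_of_le_of_ne (Nat.lt_succ_iff.1 (Finset.mem_range.1 hi)) h)).comp tendsto_natCast_atTop_atTop
  have hv : ∑ i ∈ Finset.range (d + 1), (d.factorial : ℝ) * (R.coeff i : ℝ) * (if i = d then 1 else 0) =
      ((d.factorial * R.coeff d : ℚ) : ℝ) := by simp
  rw [← hv]
  refine hlim.congr' ?_
  filter_upwards [hg] with t ht
  have e : (g t : ℝ) = ((R.eval (t : ℚ) : ℚ) : ℝ) := by
    have : (g t : ℚ) = R.eval (t : ℚ) := ht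
    exact_mod_cast this
  rw [e, eval_eq_sum_range' (Nat.lt_succ_of_le hR)]
  push_cast
  rw [Finset.mul_sum, Finset.sum_div]
  exact Finset.sum_congr rfl fun i _ => by ring

/-- Serre's theorem. -/
theorem tendsto_euler_of_maxSupp (hmax : MaxSupp (Ideal.span (Set.range f)) M) :
    Tendsto (fun t : ℕ => (r.factorial : ℝ) *
        ((Module.length A (M ⧸ (Ideal.span (Set.range f) ^ t • (⊤ : Submodule A M)))).toNat : ℝ) / (t : ℝ) ^ r) atTop
      (nhds ((∑ᶠ i : ℤ, ((i.negOnePow : ℤˣ) : ℤ) * ((Module.length A ((cx f M).homology i)).toNat : ℤ) : ℤ) : ℝ)) := by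
  obtain ⟨R, hR, hRe, he⟩ := euler_eq f M hmax
  have h := tendsto_of_evPoly hR hRe
  rw [← he] at h
  simpa [hs] using h

/-- Serre's theorem. -/
theorem tendsto_euler (hI : Ideal.span (Set.range f) ≤ IsLocalRing.maximalIdeal A ∧
    ∃ n : ℕ, IsLocalRing.maximalIdeal A ^ n ≤ Ideal.span (Set.range f)) :
    Tendsto (fun t : ℕ => (r.factorial : ℝ) *
        ((Module.length A (M ⧸ (Ideal.span (Set.range f) ^ t • (⊤ : Submodule A M)))).toNat : ℝ) / (t : ℝ) ^ r) atTop
      (nhds ((∑ᶠ i : ℤ, ((i.negOnePow : ℤˣ) : ℤ) * ((Module.length A ((cx f M).homology i)).toNat : ℤ) : ℤ) : ℝ)) :=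
  tendsto_euler_of_maxSupp f M (maxSupp_of_primary f M hI)

end Groth.Agent.H9Samuel
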