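import Groth.Agent.WiebeLib.Basic
import Groth.Agent.HSLib.Samuel

/-!
The truncations of the Koszul complex by powers of the ideal compute its Euler characteristic.
-/

set_option autoImplicit false
set_option linter.style.haveILetI false
set_option linter.unusedSectionVars false
set_option backward.isDefEq.respectTransparency false

universe u

open TensorProduct Groth.Agent Groth.Agent.WiebeLib Groth.Agent.HSLib

namespace Groth.Agent.H9Samuel

variable {A : Type u} [CommRing A] {r : ℕ} (f : Fin r → A) (M : Type u) [AddCommGroup M] [Module A M]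

/-- The terms. -/
abbrev C (p : ℕ) : Type u := Ko A r p ⊗[A] M

/-- The differential. -/
noncomputable def D (p : ℕ) : C (r := r) (A := A) M (p + 1) →ₗ[A] C (r := r) (A := A) M p := (d r f p).rTensor M

/-- Cycles. -/
noncomputable def Z : ∀ p : ℕ, Submodule A (C (r := r) (A := A) M p)
  | 0 => ⊤
  | p + 1 => LinearMap.ker (D f M p)

/-- Boundaries. -/
noncomputable def B (p : ℕ) : Submodule A (C (r := r) (A := A) M p) := LinearMap.range (D f M p)

theorem mem_smul_top_pi {ι : Type*} [Fintype ι] {N : Type u} [AddCommGroup N] [Module A N] (J : Ideal A)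
    (x : ι → N) (h : ∀ i, x i ∈ (J • ⊤ : Submodule A N)) : x ∈ (J • ⊤ : Submodule A (ι → N)) := by
  classical
  rw [← Finset.univ_sum_single x]
  refine sum_mem fun i _ => ?_
  have := Submodule.mem_map_of_mem (f := LinearMap.single A (fun _ : ι => N) i) (h i)
  rw [Submodule.map_smul''] at this
  exact Submodule.smul_mono le_rfl le_top this

theorem D_mem (p : ℕ) (m : ℕ) {z : C (r := r) (A := A) M (p + 1)}
    (hz : z ∈ (Ideal.span (Set.range f) ^ m • ⊤ : Submodule A (C (r := r) (A := A) M (p + 1)))) :
    D f M p z ∈ (Ideal.span (Set.range f) ^ (m + 1) • ⊤ : Submodule A (C (r := r) (A := A) M p)) := by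
  have h1 : LinearMap.range (D f M p) ≤ Ideal.span (Set.range f) • (⊤ : Submodule A (C (r := r) (A := A) M p)) := by
    rintro _ ⟨y, rfl⟩
    induction y using TensorProduct.induction_on with
    | zero => rw [map_zero]; exact zero_mem _
    | tmul a b =>
      show d r f p a ⊗ₜ[A] b ∈ _
      have ha : d r f p a ∈ (Ideal.span (Set.range f) • ⊤ : Submodule A (Ko A r p)) :=
        mem_smul_top_pi _ _ fun i => by
          rw [Ideal.smul_eq_mul, Ideal.mul_top]
          exact d_mem r f p a i
      have := Submodule.mem_map_of_mem (f := (TensorProduct.mk A (Ko A r p) M).flip b) ha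
      rw [Submodule.map_smul''] at this
      exact Submodule.smul_mono le_rfl le_top this
    | add a b ha hb => rw [map_add]; exact add_mem ha hb
  have h2 := Submodule.mem_map_of_mem (f := D f M p) hz
  rw [Submodule.map_smul'', Submodule.map_top] at h2
  rw [pow_succ, mul_smul]
  exact Submodule.smul_mono le_rfl h1 h2

theorem exists_pre {a : A} (ha : a ∈ Ideal.span (Set.range f)) : ∀ (p m : ℕ) {y : C (r := r) (A := A) M p},
    y ∈ Z f M p → y ∈ (Ideal.span (Set.range f) ^ m • ⊤ : Submodule A (C (r := r) (A := A) M p)) →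
    a • y ∈ (Ideal.span (Set.range f) ^ m • ⊤ : Submodule A (C (r := r) (A := A) M (p + 1))).map (D f M p) := by
  obtain ⟨v, rfl⟩ := (Ideal.mem_span_range_iff_exists_fun).1 ha
  intro p m y hy hym
  refine ⟨(eta r v p).rTensor M y, ?_, ?_⟩
  · have h2 := Submodule.mem_map_of_mem (f := (eta r v p).rTensor M) hym
    rw [Submodule.map_smul''] at h2
    exact Submodule.smul_mono le_rfl le_top h2
  · cases p with
    | zero =>
      have h : d r f 0 ∘ₗ eta r v 0 = (∑ i, v i * f i) • LinearMap.id := LinearMap.ext fun x => d_eta_zero r f v x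
      show (d r f 0).rTensor M ((eta r v 0).rTensor M y) = _
      rw [← LinearMap.rTensor_comp_apply, h, LinearMap.rTensor_smul, LinearMap.rTensor_id]
      rfl
    | succ p =>
      have h : d r f (p + 1) ∘ₗ eta r v (p + 1) + eta r v p ∘ₗ d r f p = (∑ i, v i * f i) • LinearMap.id :=
        LinearMap.ext fun x => d_eta r f v p x
      have h' := LinearMap.congr_fun (congrArg (fun φ => φ.rTensor M) h) y
      simp only [LinearMap.rTensor_add, LinearMap.rTensor_comp, LinearMap.rTensor_smul, LinearMap.rTensor_id,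
        LinearMap.add_apply, LinearMap.coe_comp, Function.comp_apply, LinearMap.smul_apply, LinearMap.id_coe,
        id_eq] at h'
      have hy0 : (d r f p).rTensor M y = 0 := hy
      rw [hy0, map_zero, add_zero] at h'
      exact h'

variable [IsNoetherianRing A] [Module.Finite A M]

/-- Cycles deep in the filtration are boundaries of deep chains. -/
theorem exists_exact : ∃ N : ℕ, ∀ p ≤ r, ∀ m, N ≤ m →
    Z f M p ⊓ (Ideal.span (Set.range f) ^ m • ⊤) ≤
      (Ideal.span (Set.range f) ^ (m - 1) • ⊤ : Submodule A (C (r := r) (A := A) M (p + 1))).map (D f M p) := by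
  set I := Ideal.span (Set.range f)
  choose k hk using fun p => I.exists_pow_inf_eq_pow_smul (Z f M p)
  refine ⟨(Finset.range (r + 1)).sup k + 1, fun p hp m hm z hz => ?_⟩
  have hkp : k p ≤ (Finset.range (r + 1)).sup k := Finset.le_sup (Finset.mem_range.2 (Nat.lt_succ_of_le hp))
  have e1 := hk p m (by omega)
  have e2 := hk p (m - 1) (by omega)
  rw [show m - k p = 1 + (m - 1 - k p) by omega, pow_add, pow_one, mul_smul, ← e2, inf_comm] at e1
  have hz' : z ∈ I • (I ^ (m - 1) • ⊤ ⊓ Z f M p) := by rw [← e1]; exact hz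
  exact Submodule.smul_induction_on hz' (fun a ha y hy => exists_pre f M ha p (m - 1) hy.2 hy.1)
    fun x y hx hy => add_mem hx hy

omit [IsNoetherianRing A] [Module.Finite A M] in
theorem B_le_Z (p : ℕ) : B f M p ≤ Z f M p := by
  cases p with
  | zero => exact le_top
  | succ p =>
    rintro _ ⟨x, rfl⟩
    show (d r f p).rTensor M ((d r f (p + 1)).rTensor M x) = 0
    rw [← LinearMap.rTensor_comp_apply, show d r f p ∘ₗ d r f (p + 1) = 0 from LinearMap.ext (d_d r f p),
      LinearMap.rTensor_zero]
    rfl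

omit [Module.Finite A M] in
theorem qlen_sup {N : Type u} [AddCommGroup N] [Module A N] {P Q J : Submodule A N} (h : P ≤ Q) (hJ : Q ⊓ J ≤ P) :
    qlen (Q ⊔ J) (P ⊔ J) = qlen Q P := by
  let φ : Q →ₗ[A] ↥(Q ⊔ J) ⧸ (P ⊔ J).comap (Q ⊔ J).subtype :=
    (Submodule.mkQ _).comp (Submodule.inclusion le_sup_left)
  have hsurj : Function.Surjective φ := by
    intro y
    obtain ⟨⟨m, hm⟩, rfl⟩ := Submodule.Quotient.mk_surjective _ y
    obtain ⟨a, ha, b, hb, rfl⟩ := Submodule.mem_sup.mp hm
    refine ⟨⟨a, ha⟩, (Submodule.Quotient.eq _).mpr ?_⟩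
    show a - (a + b) ∈ P ⊔ J
    rw [sub_add_cancel_left]
    exact Submodule.mem_sup_right (neg_mem hb)
  have hker : LinearMap.ker φ = P.comap Q.subtype := by
    ext q
    simp only [φ, LinearMap.mem_ker, LinearMap.comp_apply, Submodule.mkQ_apply, Submodule.Quotient.mk_eq_zero,
      Submodule.mem_comap]
    refine ⟨fun hq => ?_, fun hq => Submodule.mem_sup_left hq⟩
    obtain ⟨a, ha, b, hb, hab⟩ := Submodule.mem_sup.mp hq
    change a + b = (q : N) at hab
    have hb' : b ∈ P := hJ ⟨by rw [show b = (q : N) - a by rw [← hab]; abel]; exact sub_mem q.2 (h ha), hb⟩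
    show (q : N) ∈ P
    rw [← hab]
    exact add_mem ha hb'
  exact ((Submodule.quotEquivOfEq _ _ hker.symm).trans (φ.quotKerEquivOfSurjective hsurj)).length_eq.symm

omit [IsNoetherianRing A] [Module.Finite A M] in
/-- The length of a homology group. -/
noncomputable def hlen (p : ℕ) : ℕ∞ := qlen (Z f M p) (B f M p)

theorem card_idx : ∀ n k : ℕ, Fintype.card (Idx n k) = n.choose k := by
  intro n
  induction n with
  | zero =>
    intro k
    cases k with
    | zero => exact Fintype.card_unit
    | succ k => exact Fintype.card_empty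
  | succ n ih =>
    intro k
    cases k with
    | zero => exact (ih 0).trans (by simp)
    | succ k =>
      refine Eq.trans (@Fintype.card_sum (Idx n (k + 1)) (Idx n k) _ _) ?_
      rw [ih, ih, Nat.choose_succ_succ', add_comm]

omit [IsNoetherianRing A] [Module.Finite A M] in
theorem length_quot (J : Ideal A) (p : ℕ) :
    Module.length A (C (r := r) (A := A) M p ⧸ (J • ⊤ : Submodule A (C (r := r) (A := A) M p))) =
      (r.choose p : ℕ) * Module.length A (M ⧸ (J • ⊤ : Submodule A M)) := by
  classical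
  let e : C (r := r) (A := A) M p ≃ₗ[A] (Idx r p → M) :=
    TensorProduct.comm A _ _ ≪≫ₗ TensorProduct.piScalarRight A A M (Idx r p)
  let ψ : (Idx r p → M) →ₗ[A] (Idx r p → M ⧸ (J • ⊤ : Submodule A M)) :=
    LinearMap.pi fun i => (Submodule.mkQ _).comp (LinearMap.proj i)
  have hψ : Function.Surjective ψ := fun y => by
    choose x hx using fun i => Submodule.Quotient.mk_surjective _ (y i)
    exact ⟨x, funext hx⟩
  have hk : LinearMap.ker ψ = (J • ⊤ : Submodule A (Idx r p → M)) := by
    refine le_antisymm (fun x hx => mem_smul_top_pi J x fun i => ?_) (Submodule.smul_le.2 fun a ha x _ => ?_)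
    · exact (Submodule.Quotient.mk_eq_zero _).1 (congrFun hx i)
    · exact funext fun i => (Submodule.Quotient.mk_eq_zero _).2 (Submodule.smul_mem_smul ha trivial)
  rw [((Submodule.Quotient.equiv _ (J • ⊤ : Submodule A (Idx r p → M)) e (by
    rw [Submodule.map_smul'', Submodule.map_top, LinearEquiv.range])).trans
      ((Submodule.quotEquivOfEq _ _ hk.symm).trans (ψ.quotKerEquivOfSurjective hψ))).length_eq,
    Module.length_pi_of_fintype, Finset.sum_const, Finset.card_univ, card_idx, nsmul_eq_mul]

theorem qlen_top {N : Type u} [AddCommGroup N] [Module A N] (P : Submodule A N) :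
    qlen ⊤ P = Module.length A (N ⧸ P) := by
  have := length_quot_eq_add (M := N) (show P ≤ ⊤ from le_top)
  haveI hs : Subsingleton (N ⧸ (⊤ : Submodule A N)) := Submodule.Quotient.subsingleton_iff.2 rfl
  have hz : Module.length A (N ⧸ (⊤ : Submodule A N)) = 0 :=
    Module.length_eq_zero_iff.2 inferInstance
  rwa [hz, add_zero, eq_comm] at this

omit [IsNoetherianRing A] [Module.Finite A M] in
/-- Quotients by preimages. -/
theorem length_quot_comap {N P : Type u} [AddCommGroup N] [Module A N] [AddCommGroup P] [Module A P] (φ : N →ₗ[A] P)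
    (J : Submodule A P) : Module.length A (N ⧸ J.comap φ) = qlen (LinearMap.range φ) (LinearMap.range φ ⊓ J) := by
  let ψ : N →ₗ[A] ↥(LinearMap.range φ) ⧸ (LinearMap.range φ ⊓ J).comap (LinearMap.range φ).subtype :=
    (Submodule.mkQ _).comp φ.rangeRestrict
  have hs : Function.Surjective ψ := (Submodule.mkQ_surjective _).comp φ.surjective_rangeRestrict
  have hk : LinearMap.ker ψ = J.comap φ := by
    ext x
    simp [ψ, Submodule.Quotient.mk_eq_zero]
  exact ((Submodule.quotEquivOfEq _ _ hk.symm).trans (ψ.quotKerEquivOfSurjective hs)).length_eq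

/-- The length identity. -/
theorem exists_split : ∃ N : ℕ, ∀ n, N ≤ n → ∃ β : ℕ → ℕ∞, β (r + 1) = 0 ∧ β 0 = 0 ∧ ∀ p ≤ r,
    (r.choose p : ℕ) * Module.length A (M ⧸ (Ideal.span (Set.range f) ^ (n - p) • ⊤ : Submodule A M)) =
      β (p + 1) + hlen f M p + β p := by
  set I := Ideal.span (Set.range f)
  obtain ⟨N, hN⟩ := exists_exact f M
  refine ⟨N + r + 1, fun n hn => ?_⟩
  let J : ∀ p, Submodule A (C (r := r) (A := A) M p) := fun p => I ^ (n - p) • ⊤
  let β : ℕ → ℕ∞ := fun p => match p with
    | 0 => 0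
    | p + 1 => qlen (B f M p ⊔ J p) (J p)
  refine ⟨β, ?_, rfl, fun p hp => ?_⟩
  · show qlen (B f M r ⊔ J r) (J r) = 0
    refine qlen_eq_zero_of_le (sup_le (fun z hz => ?_) le_rfl)
    obtain ⟨x, rfl⟩ := hz
    haveI : Subsingleton (Ko A r (r + 1)) := subsingleton_ko A (Nat.lt_succ_self r)
    rw [Subsingleton.elim x 0, map_zero]
    exact zero_mem _
  have hBZ := B_le_Z f M p
  have hZJ : Z f M p ⊓ J p ≤ B f M p := fun z hz => by
    obtain ⟨w, -, rfl⟩ := hN p hp (n - p) (by omega) hz
    exact ⟨w, rfl⟩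
  rw [← length_quot M (I ^ (n - p)) p, ← qlen_top,
    qlen_add (le_sup_right : J p ≤ B f M p ⊔ J p) le_top,
    qlen_add (sup_le_sup_right hBZ (J p) : B f M p ⊔ J p ≤ Z f M p ⊔ J p) le_top,
    qlen_sup hBZ hZJ, ← add_assoc]
  refine congrArg₂ (· + ·) rfl ?_
  cases p with
  | zero => exact qlen_eq_zero_of_le le_sup_left
  | succ q =>
    show qlen ⊤ (Z f M (q + 1) ⊔ J (q + 1)) = qlen (B f M q ⊔ J q) (J q)
    have h := qlen_sup (P := B f M q ⊓ J q) (Q := B f M q) (J := J q) inf_le_left le_rfl
    rw [sup_eq_right.2 (inf_le_right : B f M q ⊓ J q ≤ J q)] at h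
    rw [qlen_top, h]
    refine Eq.trans ?_ (length_quot_comap (D f M q) (J q))
    refine (Submodule.quotEquivOfEq _ _ ?_).length_eq
    refine le_antisymm (sup_le (fun x hx => ?_) fun x hx => ?_) (fun x hx => ?_)
    · show D f M q x ∈ J q
      rw [show D f M q x = 0 from hx]
      exact zero_mem _
    · show D f M q x ∈ J q
      have := D_mem f M q (n - (q + 1)) hx
      rwa [show n - (q + 1) + 1 = n - q by omega] at this
    · have hx' : D f M q x ∈ J q := hx
      obtain ⟨w, hw, hwe⟩ := hN q (by omega) (n - q) (by omega) ⟨B_le_Z f M q ⟨x, rfl⟩, hx'⟩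
      rw [show n - q - 1 = n - (q + 1) by omega] at hw
      rw [← sub_add_cancel x w]
      refine Submodule.add_mem_sup ?_ hw
      show D f M q (x - w) = 0
      rw [map_sub, hwe, sub_self]

end Groth.Agent.H9Samuel
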